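import Cfsg.Agent.H180.MElBig
import Cfsg.Agent.H359.NoNine
import Cfsg.Agent.H992.Stages.Mathieu
import Cfsg.Agent.H603.SporElim
import Cfsg.Agent.Prune
set_option linter.all false
prune_inst 0x7f00000000000000000000000000000000000000000000000000000000000000000000000000000000000000000000000000000000000000000000000000000000000000000000000000000000000000003fffffffffffffffffffffffffffbeffbdffffffff
open scoped Cfsg.Agent.FastGrp

/-!
# Element orders of `M22`, `M23`, `M24` (helper604)

`M24` and `M23` have no elements of order 9, `M22` has no elements of order 10.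
-/

set_option autoImplicit false

namespace Cfsg.Agent.H604.Sax.NoNine

open Cfsg Subgroup
open Cfsg.Agent.J4Type.CocodeMask
open Cfsg.Agent.SporadicA.GolayPerm (isPerm isAut papp)
open Cfsg.Agent.H180.KMathieu (orderOf_tab ordOk)

noncomputable def s : M24 := mk 144555954675154469993493327974152617 (by decide +kernel)
noncomputable def t : M24 := mk 262683325624430147843701402741246377 (by decide +kernel)
noncomputable def c : M24 := mk 467326539864746401186523836359837733 (by decide +kernel)

theorem os : orderOf s = 3 := orderOf_tab (isTab_mk _ _) (by decide +kernel)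
theorem ot : orderOf t = 3 := orderOf_tab (isTab_mk _ _) (by decide +kernel)
theorem oc : orderOf c = 3 := orderOf_tab (isTab_mk _ _) (by decide +kernel)

theorem ts : t * s = s * t * c := by
  refine ((isTab_mk _ _).mul (isTab_mk _ _)).eq ?_
  have h : pcomp 262683325624430147843701402741246377 144555954675154469993493327974152617 =
      pcomp (pcomp 144555954675154469993493327974152617 262683325624430147843701402741246377)
        467326539864746401186523836359837733 := by decide +kernel
  rw [h]
  exact ((isTab_mk _ _).mul (isTab_mk _ _)).mul (isTab_mk _ _)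

theorem cs : c * s = s * c := by
  refine ((isTab_mk _ _).mul (isTab_mk _ _)).eq ?_
  have h : pcomp 467326539864746401186523836359837733 144555954675154469993493327974152617 =
      pcomp 144555954675154469993493327974152617 467326539864746401186523836359837733 := by decide +kernel
  rw [h]
  exact (isTab_mk _ _).mul (isTab_mk _ _)

theorem ct : c * t = t * c := by
  refine ((isTab_mk _ _).mul (isTab_mk _ _)).eq ?_
  have h : pcomp 467326539864746401186523836359837733 262683325624430147843701402741246377 =
      pcomp 262683325624430147843701402741246377 467326539864746401186523836359837733 := by decide +kernel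
  rw [h]
  exact (isTab_mk _ _).mul (isTab_mk _ _)

theorem m24 (g : M24) : orderOf g ≠ 9 := by
  have hs : s ^ 3 = 1 := by rw [← os, pow_orderOf_eq_one]
  have ht : t ^ 3 = 1 := by rw [← ot, pow_orderOf_eq_one]
  have hc : c ≠ 1 := by
    intro h
    have := oc
    rw [h, orderOf_one] at this
    norm_num at this
  refine Cfsg.Agent.H359.no_nine_of_heis hs ht ts cs ct hc ?_ g
  rw [Cfsg.Agent.H180.MEl.fact24]
  norm_num

theorem m23 (g : Spor.M23) : orderOf g ≠ 9 := by
  intro h
  apply m24 ⟨g.1, g.2.1⟩
  rw [Subgroup.orderOf_mk, Subgroup.orderOf_coe, h]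

/-- `M22` has no elements of order 10 -/
theorem m22 (g : Spor.M22) : orderOf g ≠ 10 := by
  intro h
  have h1 : orderOf (g ^ 5) = 2 := by
    rw [orderOf_pow_of_dvd (by norm_num) (by rw [h]; norm_num), h]
  have h2 := Cfsg.Agent.H992.Stages.card_cent_m22 h1
  have h3 : g ∈ centralizer ({g ^ 5} : Set Spor.M22) :=
    mem_centralizer_singleton_iff.2 ((Commute.refl g).pow_right 5).eq
  have h4 := Subgroup.orderOf_dvd_natCard _ h3
  rw [h2, h] at h4
  norm_num at h4

theorem iso_m24 {M : Type*} [Group M] (h : Spor.IsoM24 M) (g : M) : orderOf g ≠ 9 := by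
  obtain ⟨e⟩ := h
  rw [← MulEquiv.orderOf_eq e]
  exact m24 _

theorem iso_m23 {M : Type*} [Group M] (h : Spor.IsoM23 M) (g : M) : orderOf g ≠ 9 := by
  obtain ⟨e⟩ := h
  rw [← MulEquiv.orderOf_eq e]
  exact m23 _

theorem iso_m22 {M : Type*} [Group M] (h : Spor.IsoM22 M) (g : M) : orderOf g ≠ 10 := by
  obtain ⟨e⟩ := h
  rw [← MulEquiv.orderOf_eq e]
  exact m22 _

end Cfsg.Agent.H604.Sax.NoNine
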