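import Cfsg.Agent.H845.CopTits
import Cfsg.Agent.H604.Sax.Tops
import Cfsg.Agent.H410.CopTits
import Cfsg.Agent.H127.PSUThreeEx
import Cfsg.Agent.S2475
import Cfsg.Agent.H938.Sax.Base
import Cfsg.Agent.Prune
set_option linter.all false

section
prune_inst 0x7f00000000000000000000000000000000000000000000000000000000000000000000000000000000000000000000000000000000000000000000000000000000000000000000000000000000000000003fffffffffffffffffffffffffffbeffbdffffffff

-- part: H604/Sax/TitsX
section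
set_option linter.all false
open scoped Cfsg.Agent.FastGrp

/-!
# The Tits group: the centralizer of the element `x` of order 13 (helper604)
-/

namespace Cfsg.Agent.H604.Sax

open Subgroup Cfsg.Agent

theorem iso_refl : Cfsg.Lie.IsoTits Cfsg.Lie.TitsGroup := ⟨MulEquiv.refl _⟩

theorem card_x (D : H87.TitsAbs.Dat Cfsg.Lie.TitsGroup) :
    Nat.card (centralizer ({D.x} : Set Cfsg.Lie.TitsGroup)) = 13 := by
  have : Finite Cfsg.Lie.TitsGroup := by
    apply Nat.finite_of_card_ne_zero
    rw [Cfsg.Agent.H87.TitsData.card_tits]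
    norm_num
  exact H845.CopTits.card_cent_x iso_refl D

theorem order_x {K : Type*} [Group K] (D : H87.TitsAbs.Dat K) : orderOf D.x = 13 := by
  have : Fact (Nat.Prime 13) := ⟨by norm_num⟩
  exact orderOf_eq_prime D.x13 D.x1

theorem exists_x : ∃ x : Cfsg.Lie.TitsGroup, orderOf x = 13 ∧
    Nat.card (centralizer ({x} : Set Cfsg.Lie.TitsGroup)) = 13 := by
  obtain ⟨D⟩ := Cfsg.Agent.H87.TitsData.dat_tits
  exact ⟨D.x, order_x D, Cfsg.Agent.H604.Sax.card_x D⟩

end Cfsg.Agent.H604.Sax
end

-- part: H604/Sax/Tits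
section
set_option linter.all false
open scoped Cfsg.Agent.FastGrp

/-!
# `OGMax` for the Tits group (helper604, task 1613)

A proper subgroup of order divisible by 2, 3, 5, 13 has a normal subgroup `L2(25)` of index 1 or 3 (`U3(4)` is excluded by
an element of order 15); elements of order 10 are missing.
-/

set_option autoImplicit false

namespace Cfsg.Agent.H604.Sax

open Subgroup
open Cfsg Cfsg.Agent.OrdDiv
open Cfsg.Agent.H257.El
open Cfsg.Agent.H537.Cop
open Cfsg.Agent.H938.Sax

universe u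

theorem self_aux {T : Type u} [Group T] [Finite T] {r : ℕ} [hr : Fact r.Prime] (hc : ¬ r ^ 2 ∣ Nat.card T)
    {K : Type*} [Group K] (e : T ≃* K) {x₀ : K} (hx : orderOf x₀ = r)
    (h1 : Nat.card (centralizer ({x₀} : Set K)) = r) : SelfC T r := by
  intro y hy
  set x : T := e.symm x₀ with hxdef
  have hx' : orderOf x = r := by rw [hxdef, MulEquiv.orderOf_eq, hx]
  have hcx : Nat.card (centralizer ({x} : Set T)) = r := by
    rw [card_centralizer_equiv e x, hxdef, MulEquiv.apply_symm_apply]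
    exact h1
  obtain ⟨g, hg⟩ := conj_of_cyclic (fun P => cyclic_of_sq hc P) hx' hy
  obtain ⟨j, hj⟩ := mem_zpowers_iff.1 hg
  -- `x ∈ ⟨g y g⁻¹⟩`
  have h2 : zpowers (g * y * g⁻¹) = zpowers x := by
    apply Subgroup.eq_of_le_of_card_ge
    · rw [zpowers_le]; exact hg
    · rw [Nat.card_zpowers, Nat.card_zpowers, hx']
      have h3 : orderOf (g * y * g⁻¹) = orderOf y :=
        orderOf_injective (MulAut.conj g).toMonoidHom (MulAut.conj g).injective y
      rw [h3, hy]
  have h3 : centralizer ({g * y * g⁻¹} : Set T) = centralizer ({x} : Set T) := by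
    have key : ∀ a b : T, a ∈ zpowers b → centralizer ({b} : Set T) ≤ centralizer ({a} : Set T) := by
      rintro a b ha c hc'
      rw [mem_centralizer_singleton_iff] at hc' ⊢
      obtain ⟨k, rfl⟩ := mem_zpowers_iff.1 ha
      exact ((show Commute c b from hc').zpow_right k).eq
    apply le_antisymm
    · exact key _ _ (by rw [h2]; exact mem_zpowers _)
    · exact key _ _ (by rw [← h2]; exact mem_zpowers _)
  rw [← hcx, ← h3]
  exact card_centralizer_equiv (MulAut.conj g) y

theorem self_aux' {T : Type u} [Group T] [Finite T] {r : ℕ} [Fact r.Prime] (hc : ¬ r ^ 2 ∣ Nat.card T)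
    {X : Type*} [Group X] (K : Subgroup X) (e : Nonempty (T ≃* commutator K))
    (h : ∃ x : commutator K, orderOf x = r ∧ Nat.card (centralizer ({x} : Set (commutator K))) = r) : SelfC T r := by
  obtain ⟨e⟩ := e
  obtain ⟨x, hx, hcx⟩ := h
  exact self_aux hc e hx hcx

/-- the elements of order 13 of the Tits group are self-centralizing -/
theorem self_tits {T : Type u} [Group T] [Finite T] (h : Lie.IsoTits T) : SelfC T 13 := by
  have hc : Nat.card T = 17971200 := NotCT.Orders.tits h
  have : Fact (Nat.Prime 13) := ⟨by norm_num⟩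
  exact self_aux' (by rw [hc]; norm_num) _ h exists_x

theorem psl25_no_ten {F : Type*} [Field F] [Fintype F] (hF : Fintype.card F = 25)
    (g : Matrix.ProjectiveSpecialLinearGroup (Fin 2) F) : orderOf g ≠ 10 := by
  intro h
  obtain ⟨p, hp⟩ := CharP.exists F
  obtain ⟨n, hpp, hc⟩ := FiniteField.card F p
  have : Fact p.Prime := ⟨hpp⟩
  have h5 : p = 5 := by
    have h1 : p ∣ 5 ^ 2 := by
      rw [show (5 : ℕ) ^ 2 = 25 by norm_num, ← hF, hc]
      exact dvd_pow_self p n.2.ne'
    exact (Nat.prime_dvd_prime_iff_eq hpp (by norm_num)).1 (hpp.dvd_of_dvd_pow h1)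
  subst h5
  have h1 : orderOf g ∈ Set.range (orderOf : Matrix.ProjectiveSpecialLinearGroup (Fin 2) F → ℕ) := ⟨g, rfl⟩
  rw [Cfsg.Agent.S2475.result 5 (by rw [hF]; norm_num), Set.mem_ofPred_eq, hF, h] at h1
  norm_num at h1

theorem psu34_fifteen {F : Type*} [Field F] [Fintype F] (hF : Fintype.card F = 4 ^ 2) :
    ∃ g : PSU 3 F 4, orderOf g = 15 :=
  Cfsg.Agent.H127.PSUThreeEx.ex_three hF 15 (by norm_num)

section

variable {T : Type u} [Group T]

theorem ful_tits (tab : OrderTable.{u}) (known : Known.{u}) [Finite T] (h : Lie.IsoTits T) {R : Subgroup T}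
    (hR : R ≠ ⊤) (full : ∀ p : ℕ, p.Prime → p ∣ 17971200 → p ∣ Nat.card R) :
    Ful T 17971200 [(2,11),(3,3),(5,2),(13,1)] 13 R where
  tab := tab
  known := known
  card := NotCT.Orders.tits h
  valid := by decide +kernel
  prime := by norm_num
  dvd := by norm_num
  sq := by norm_num
  self := self_tits h
  ne := hR
  full := full

/-- no element of order 15 -/
theorem tits_no_fifteen [Finite T] (h : Lie.IsoTits T) (z : T) : orderOf z ≠ 15 := by
  intro hz
  have h1 : orderOf (z ^ 3) = 5 := by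
    rw [orderOf_pow_of_dvd (by norm_num) (by rw [hz]; norm_num), hz]
  have h2 : orderOf (z ^ 5) = 3 := by
    rw [orderOf_pow_of_dvd (by norm_num) (by rw [hz]; norm_num), hz]
  exact CB.ne (H410.CopTits.cb_five_three h) _ _ h1 h2 ((Commute.refl z).pow_pow 3 5).eq

theorem exists_ten_tits [Finite T] (h : Lie.IsoTits T) : ∃ z : T, orderOf z = 10 := by
  have h5 : Fact (Nat.Prime 5) := ⟨by norm_num⟩
  have h2 : Fact (Nat.Prime 2) := ⟨by norm_num⟩
  obtain ⟨y, hy⟩ := exists_prime_orderOf_dvd_card' (G := T) 5 (by rw [NotCT.Orders.tits h]; norm_num)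
  obtain ⟨t, ht⟩ := exists_prime_orderOf_dvd_card' (G := centralizer ({y} : Set T)) 2 (by
    rw [(CpAutTits.Row.out h).cent y hy]; norm_num)
  have h3 := t.2
  rw [mem_centralizer_singleton_iff] at h3
  exact ⟨t * y, orderOf_mul_of_comm (r := 2) (s := 5) (by norm_num) (by norm_num) (by norm_num)
    (by rw [Subgroup.orderOf_coe]; exact ht) hy h3⟩

/-- **a proper subgroup of the Tits group of order divisible by 2, 3, 5, 13 has a normal subgroup `L2(25)` of index
1 or 3** -/
theorem full_tits (tab : OrderTable.{u}) (known : Known.{u}) [Finite T] (h : Lie.IsoTits T) {R : Subgroup T}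
    (hR : R ≠ ⊤) (full : ∀ p : ℕ, p.Prime → p ∣ 17971200 → p ∣ Nat.card R) :
    ∃ (O : Subgroup R) (_ : O.Normal) (N : Subgroup (R ⧸ O)), N.Normal ∧ Nat.card O = 1 ∧ N.index ∣ 3 ∧
      ∃ (F : Type) (_ : Field F) (_ : Fintype F), Fintype.card F = 25 ∧
        Nonempty (N ≃* Matrix.ProjectiveSpecialLinearGroup (Fin 2) F) := by
  obtain ⟨O, hO, N, hN, hO1, h1 | h1⟩ := top_tits (ful_tits tab known h hR full)
  · exact ⟨O, hO, N, hN, hO1, h1.2, h1.1⟩
  · exfalso
    obtain ⟨F, _, _, hF, ⟨e⟩⟩ := (show ∃ (F : Type) (_ : Field F) (_ : Fintype F), Fintype.card F = 4 ^ 2 ∧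
      Nonempty (N ≃* PSU 3 F 4) from h1.1)
    obtain ⟨g, hg⟩ := psu34_fifteen hF
    obtain ⟨y, hy⟩ := QuotientGroup.mk'_surjective O ((e.symm g : N) : R ⧸ O)
    obtain ⟨k, hk⟩ := exists_lift (QuotientGroup.mk' O) (z := y) (n := 15) (by
      rw [hy, Subgroup.orderOf_coe, MulEquiv.orderOf_eq, hg])
    exact tits_no_fifteen h ((y ^ k : R) : T) (by rw [Subgroup.orderOf_coe, hk])

theorem og_tits (tab : OrderTable.{u}) (known : Known.{u}) (h : Lie.IsoTits T) : OGMax T := by
  have : Finite T := Nat.finite_of_card_ne_zero (by rw [NotCT.Orders.tits h]; norm_num)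
  intro R hR
  by_contra hn
  obtain ⟨g, hg⟩ := exists_ten_tits h
  obtain ⟨m, hm, ho⟩ := exists_order_of_not_ordGap hn g
  rw [hg] at ho
  obtain ⟨O, hO, N, hN, hO1, hi, F, _, _, hF, ⟨e⟩⟩ := full_tits tab known h hR.1
    (fun p hp hd => prime_dvd_of_not_ordGap hn hp (by rw [NotCT.Orders.tits h]; exact hd))
  have hx : orderOf (⟨m, hm⟩ : R) = 10 := by rw [Subgroup.orderOf_mk, ho]
  obtain ⟨y, hy⟩ := push (O := O) (N := N) (m := 10) (by rw [hO1]; norm_num)
    (Nat.Coprime.coprime_dvd_right hi (by norm_num)) hx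
  exact psl25_no_ten hF (e y) (by rw [MulEquiv.orderOf_eq, hy])

end

end Cfsg.Agent.H604.Sax
end
end
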